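/- Sheaves of modules on a small site form a Grothendieck abelian category. -/
import Groth.Agent.PshMod.Grothendieck
import Mathlib.Algebra.Category.ModuleCat.Sheaf.Abelian
import Mathlib.Algebra.Category.ModuleCat.Sheaf.Colimits

set_option autoImplicit false

open CategoryTheory CategoryTheory.Limits

universe u

namespace Groth.Agent.ShMod.Grothendieck

variable {C : Type u} [SmallCategory C] {J : GrothendieckTopology C} (R : Sheaf J RingCat.{u})

theorem isGrothendieckAbelian : IsGrothendieckAbelian.{u} (SheafOfModules.{u} R) := by
  haveI := PshMod.Grothendieck.isGrothendieckAbelian R.obj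
  let adj := PresheafOfModules.sheafificationAdjunction (𝟙 R.obj)
  haveI : ∀ (K : Type u) [SmallCategory K] [IsFiltered K],
      HasExactColimitsOfShape K (SheafOfModules.{u} R) := fun K _ _ =>
    adj.hasExactColimitsOfShape K
  refine { ab5OfSize := ⟨fun K _ _ => inferInstance⟩, hasSeparator := ?_ }
  let F := PresheafOfModules.sheafification.{u} (𝟙 R.obj)
  refine ⟨⟨F.obj (separator (PresheafOfModules.{u} R.obj)), (isSeparator_def _).2 fun X Y f g h => ?_⟩⟩
  apply (SheafOfModules.forget R ⋙ PresheafOfModules.restrictScalars (𝟙 R.obj)).map_injective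
  refine (isSeparator_separator _).def _ _ fun a => ?_
  apply (adj.homEquiv _ _).symm.injective
  rw [adj.homEquiv_naturality_right_symm, adj.homEquiv_naturality_right_symm]
  exact h _

theorem enoughInjectives : EnoughInjectives (SheafOfModules.{u} R) := by
  haveI := isGrothendieckAbelian R
  infer_instance

end Groth.Agent.ShMod.Grothendieck
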